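import Groth.Agent.VecBal.K812.Iface
import Groth.Agent.VecBal.K812.VAmple
import Groth.Agent.CurvSt.K900.Tot
import Groth.Agent.CurvSt.K900.DualBasic
import Groth.Agent.CurvesC.TailUnion

/-!
# A closed subcurve which is semistable of the same genus `g ≥ 2` is everything
-/

set_option autoImplicit false
universe u

open CategoryTheory CategoryTheory.Limits AlgebraicGeometry Opposite TopologicalSpace

namespace K236.Subcurve

open Groth.Agent Groth.Agent.CurvesC Groth.Agent.CurvesC.TailGeom Groth.Agent.CurvesC.CompGeom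
  Groth.Agent.CurvesC.NodalPos

variable (k : Type u) [Field k]

/-- Numerical invariants of the structure sheaf under isomorphisms. -/
theorem finrank_iso {Z X : Scheme.{u}} [Z.Over (Spec (CommRingCat.of k))] [X.Over (Spec (CommRingCat.of k))]
    (e : Z ≅ X) (he : e.hom ≫ (X ↘ Spec (CommRingCat.of k)) = Z ↘ Spec (CommRingCat.of k)) (n : ℕ) :
    Module.finrank k (Coh.HH X (Coh.structureModule X) n) =
      Module.finrank k (Coh.HH Z (Coh.structureModule Z) n) := by
  rw [DegIso.finrank_congr k (DegIso.unitIso e (Coh.structureModule X)) n, DegIso.finrank_push k e.hom he,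
    DegIso.finrank_congr k (CurvesA.HHMap.pullbackUnit e.hom) n]

/-- The degree of a dualizing module. -/
theorem deg_w {X : Scheme.{u}} [X.Over (Spec (CommRingCat.of k))] [IsProper (X ↘ Spec (CommRingCat.of k))]
    (hdim : topologicalKrullDim X = 1)
    (h0 : Module.finrank k (Coh.HH X (Coh.structureModule X) 0) = 1) {w : X.Modules} (hw : PicF.IsInvertible w)
    {t : Coh.HH X w 1 →ₗ[k] k} (ht : DualCount.IsPair k t) :
    Curv2.deg k X w 1 = 2 * (Curv2.genus k X : ℤ) - 2 := by
  have e1 := DualSetup.h0_w ht (CurvesB.UnitCoh.isCoh_structureModule X).1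
  have e2 := DualSetup.h0_unit hw ht (Groth.Agent.Ega2.QCohLocal.isQCoh_of_isInvertible hw)
  have e3 : Curv2.genus k X = Module.finrank k (Coh.HH X (Coh.structureModule X) 1) := rfl
  unfold Curv2.deg
  rw [CurveCoh.euler_eq k X hdim, CurveCoh.euler_eq k X hdim, e1, ← e2, h0, e3]
  push_cast
  ring

/-- A sum of non-negative integers over a finite type dominates the sum over a subset. -/
theorem finsum_le {α β : Type*} [Finite α] [Finite β] (φ : α → β) (hφ : Function.Injective φ) (f : β → ℤ)
    (hf : ∀ b, 0 ≤ f b) : ∑ᶠ a, f (φ a) ≤ ∑ᶠ b, f b := by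
  classical
  have := Fintype.ofFinite α
  have := Fintype.ofFinite β
  rw [finsum_eq_sum_of_fintype, finsum_eq_sum_of_fintype]
  refine (Finset.sum_map Finset.univ ⟨φ, hφ⟩ f).symm.le.trans ?_
  exact Finset.sum_le_sum_of_subset_of_nonneg (Finset.subset_univ _) fun b _ _ => hf b

variable [IsAlgClosed k] {X Y : Scheme.{u}} [X.Over (Spec (CommRingCat.of k))] [Y.Over (Spec (CommRingCat.of k))]
  [IsProper (X ↘ (Spec (CommRingCat.of k)))] [IsProper (Y ↘ (Spec (CommRingCat.of k)))]

/-- The image of a component of a closed subcurve of pure dimension one is a component. -/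
theorem image_mem (i : X ⟶ Y) [IsClosedImmersion i] (hdY : topologicalKrullDim Y ≤ 1)
    (hpX : ∀ Z ∈ irreducibleComponents (X : Type u), topologicalKrullDim Z = 1)
    {C : Set X} (hC : C ∈ irreducibleComponents (X : Type u)) : i '' C ∈ irreducibleComponents (Y : Type u) := by
  have hemb := i.isClosedEmbedding
  have hZc : IsClosed C := isClosed_of_mem_irreducibleComponents C hC
  have hcl : IsClosed (i '' C) := hemb.isClosedMap _ hZc
  have hirr : IsIrreducible (i '' C) := hC.1.image _ i.continuous.continuousOn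
  have hd : topologicalKrullDim (i '' C) = 1 := by
    have h1 : Topology.IsEmbedding (C.domRestrict i) := hemb.isEmbedding.comp .subtypeVal
    have h2 : Set.range (C.domRestrict i) = i '' C := Set.range_domRestrict _ _
    rw [← h2, ← IsHomeomorph.topologicalKrullDim_eq _ h1.toHomeomorph.isHomeomorph]
    exact hpX C hC
  rcases Groth.Agent.VarietyB.DegComp.mem_irreducibleComponents_of_dim hdY _ hirr hcl with h1 | h1
  · rw [hd] at h1
    exact absurd h1 (by decide)
  · exact h1.1

theorem isIso_of [ConnectedSpace X] [ConnectedSpace Y] (i : X ⟶ Y) [IsClosedImmersion i]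
    (hi : i ≫ (Y ↘ Spec (CommRingCat.of k)) = X ↘ Spec (CommRingCat.of k))
    (hdX : topologicalKrullDim X = 1) (hdY : topologicalKrullDim Y = 1)
    (hnX : Curv2.AtWorstNodal k X) (hnY : Curv2.AtWorstNodal k Y)
    (hgen : Curv2.genus k X = Curv2.genus k Y) (hg : 2 ≤ Curv2.genus k Y)
    (hss : ∀ E : Set Y, CurvSt.IsSmRatComp k Y (Y ↘ (Spec (CommRingCat.of k))) E →
      (2 : ℕ∞) ≤ (CurvSt.meetPts Y E).encard) : IsIso i := by
  have hrX : IsReduced X := GenusOne512.isReduced_of_atWorstNodal k X hnX
  have hrY : IsReduced Y := GenusOne512.isReduced_of_atWorstNodal k Y hnY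
  have hNX : IsNoetherian X := CurveCoh.noetherianSpace k X
  have hNY : IsNoetherian Y := CurveCoh.noetherianSpace k Y
  have hpX := TailMain.pure_of_connected X hdX
  have hpY := TailMain.pure_of_connected Y hdY
  have h0X := VecBal.K812.VAmple.finrank_h0 k X hnX
  have h0Y := VecBal.K812.VAmple.finrank_h0 k Y hnY
  by_contra hni
  have hne : Set.range i ≠ Set.univ := by
    intro h
    have : Surjective i := ⟨Set.range_eq_univ.1 h⟩
    exact hni (isIso_of_isClosedImmersion_of_surjective i)
  let Z : Closeds Y := ⟨Set.range i, i.isClosedEmbedding.isClosed_range⟩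
  let J : Y.IdealSheafData := Scheme.IdealSheafData.vanishingIdeal Z
  have hJr : IsReduced J.subscheme := Groth.Agent.Ega1.ReducedSub.isReduced_subscheme_vanishingIdeal _
  have hrange : Set.range J.subschemeι = Set.range i := by
    rw [Scheme.IdealSheafData.range_subschemeι, Scheme.IdealSheafData.coe_support_vanishingIdeal]
    rfl
  obtain ⟨e, he⟩ := Groth.Agent.Ega1.ReducedSub.exists_iso_of_range_eq i J.subschemeι hrange.symm
  let _ : J.subscheme.Over (Spec (CommRingCat.of k)) := TailNum.subOver k Y J
  have hek : e.hom ≫ (J.subscheme ↘ Spec (CommRingCat.of k)) = X ↘ Spec (CommRingCat.of k) := by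
    change e.hom ≫ J.subschemeι ≫ (Y ↘ Spec (CommRingCat.of k)) = _
    rw [← Category.assoc, he, hi]
  obtain ⟨w, t, hw, ht⟩ := K900.DualBasic.exists_pair k Y hdY h0Y hnY
  -- the degree on `Z`
  have hZint : (Z : Set Y) ⊆ closure (interior (Z : Set Y)) := by
    have h1 : (Z : Set Y) = ⋃₀ ((fun C : Set X => i '' C) '' irreducibleComponents (X : Type u)) := by
      change Set.range i = _
      rw [← Set.image_univ, ← sUnion_irreducibleComponents, Set.sUnion_eq_biUnion, Set.image_iUnion₂,
        Set.sUnion_image]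
    rw [h1]
    refine DualIdeals.subset_closure_interior _ ?_
    rintro _ ⟨C, hC, rfl⟩
    exact image_mem i hdY.le hpX hC
  have hform := DualDegForm.deg_form k hdY w hw ht Z hZint
  have hn0 : Module.finrank k (Coh.HH Y (ClSub.quotMod J) 0) = 1 := by
    rw [← TailNum.finrank_quotMod k Y J 0, finrank_iso k e hek, h0X]
  have hn1 : Module.finrank k (Coh.HH Y (ClSub.quotMod J) 1) = Curv2.genus k Y := by
    rw [← TailNum.finrank_quotMod k Y J 1, finrank_iso k e hek, ← hgen]
    rfl
  have hsup : J.support = Z := by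
    ext1
    exact Scheme.IdealSheafData.coe_support_vanishingIdeal _
  have hpos : 0 < Module.finrank k (Coh.HH Y (ClSub.quotMod (J ⊔ complIdeal Z)) 0) := by
    have h1 : Nonempty (J ⊔ complIdeal J.support).subscheme := by
      refine nonempty_inter J ?_ ?_
      · rw [hsup]
        exact ⟨_, Set.mem_range_self (Classical.arbitrary X)⟩
      · rw [hsup]
        intro h
        exact hne (congrArg (fun W : Closeds Y => (W : Set Y)) h)
    rw [hsup] at h1
    exact TailNum.finrank_quotMod_zero_pos k Y (J ⊔ complIdeal Z)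
  have hdegZ : Curv2.deg k X ((Scheme.Modules.pullback i).obj w) 1 =
      (Module.finrank k (Coh.HH Y (ClSub.quotMod (J ⊔ complIdeal Z)) 0) : ℤ) - 2 * (1 - Curv2.genus k Y) := by
    rw [DegIso.deg_restrict k i J.subschemeι hi rfl e he w 1]
    refine hform.trans ?_
    rw [hn0, hn1]
    rfl
  have hdegY := deg_w k hdY h0Y hw ht
  -- comparison of the degrees
  have hle : Curv2.deg k X ((Scheme.Modules.pullback i).obj w) 1 ≤ Curv2.deg k Y w 1 := by
    rw [K900.Tot.deg_eq_sum k hdX.le hpX (VecBal.K812.VAmple.isInvertible_pull i hw),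
      K900.Tot.deg_eq_sum k hdY.le hpY hw]
    let φ : irreducibleComponents (X : Type u) → irreducibleComponents (Y : Type u) :=
      fun C => ⟨i '' C.1, image_mem i hdY.le hpX C.2⟩
    have hφ : Function.Injective φ := fun C C' h => Subtype.ext
      (i.isClosedEmbedding.injective.image_injective (congrArg Subtype.val h))
    have hfX : Finite (irreducibleComponents (X : Type u)) := NoetherianSpace.finite_irreducibleComponents.to_subtype
    have hfY : Finite (irreducibleComponents (Y : Type u)) := NoetherianSpace.finite_irreducibleComponents.to_subtype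
    have hcomp : ∀ C : irreducibleComponents (X : Type u),
        Groth.Agent.S1641.degC k X 1 ((Scheme.Modules.pullback i).obj w) C = Groth.Agent.S1641.degC k Y 1 w (φ C) := by
      intro C
      let _ : (IC X C.1 C.2).subscheme.Over (Spec (CommRingCat.of k)) := overC k X C.1 C.2
      have h1 := K900.DegC.degC_eq k C (IC X C.1 C.2).subschemeι (range_C X C.1 C.2) rfl
        ((Scheme.Modules.pullback i).obj w)
      have h2 := K900.DegC.degC_eq k (φ C) ((IC X C.1 C.2).subschemeι ≫ i) (by
        change Set.range ((IC X C.1 C.2).subschemeι ≫ i) = i '' C.1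
        rw [Scheme.Hom.comp_base, TopCat.coe_comp, Set.range_comp]
        congr 1
        exact range_C X C.1 C.2) (by rw [Category.assoc, hi]; rfl) w
      rw [h1, h2]
      exact DegIso.deg_restrict_restrict k i (IC X C.1 C.2).subschemeι w 1
    rw [finsum_congr hcomp]
    refine finsum_le φ hφ (fun D => Groth.Agent.S1641.degC k Y 1 w D) fun D => ?_
    let _ : (IC Y D.1 D.2).subscheme.Over (Spec (CommRingCat.of k)) := overC k Y D.1 D.2
    have h1 := K900.DegC.degC_eq k D (IC Y D.1 D.2).subschemeι (range_C Y D.1 D.2) rfl w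
    rw [h1]
    rcases VecBal.K812.VAmple.deg_w_cases k Y hdY hnY hg hss hw ht D.1 D.2 with h2 | h2
    · exact h2.le
    · exact h2.1.ge
  rw [hdegZ, hdegY] at hle
  omega

/-- J2c. -/
theorem main : Groth.Agent.VecBal.K812.Iface.SubcurveStmt.{u} := by
  intro Ω _ _ X Y q q₀ i g hiq hi hg hX hY
  obtain ⟨hpX, hcX, hdX, ⟨hnX, hgX⟩, -⟩ := hX
  obtain ⟨hpY, hcY, hdY, ⟨hnY, hgY⟩, hss⟩ := hY
  let _ : X.Over (Spec (CommRingCat.of Ω)) := ⟨q⟩
  let _ : Y.Over (Spec (CommRingCat.of Ω)) := ⟨q₀⟩
  have h1 : IsProper (X ↘ (Spec (CommRingCat.of Ω))) := hpX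
  have h2 : IsProper (Y ↘ (Spec (CommRingCat.of Ω))) := hpY
  exact isIso_of Ω i hiq hdX hdY hnX hnY (hgX.trans hgY.symm) (hg.trans_eq hgY.symm) hss

end K236.Subcurve
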